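import Cfsg.Agent.Lib.Helper9.TCData.SuzC3.Main

set_option autoImplicit false
set_option maxRecDepth 1000000

namespace Cfsg.Agent.Helper9.TCData.SuzC3
open Cfsg.Agent.Helper9.TC2

theorem e2_2 : allRange 7092 3486 (fun u => chkE tab 2 u) = true := by decide +kernel

theorem e2_3 : allRange 10578 3406 (fun u => chkE tab 2 u) = true := by decide +kernel

theorem e2_4 : allRange 13984 3395 (fun u => chkE tab 2 u) = true := by decide +kernel

theorem e2_5 : allRange 17379 4713 (fun u => chkE tab 2 u) = true := by decide +kernel

theorem e3_0 : allRange 0 4362 (fun u => chkE tab 3 u) = true := by decide +kernel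

theorem e3_1 : allRange 4362 4193 (fun u => chkE tab 3 u) = true := by decide +kernel

theorem e3_2 : allRange 8555 4013 (fun u => chkE tab 3 u) = true := by decide +kernel

theorem e3_3 : allRange 12568 3899 (fun u => chkE tab 3 u) = true := by decide +kernel


end Cfsg.Agent.Helper9.TCData.SuzC3
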