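import Cfsg.Agent.Lib.Helper9.TCData.SuzC3.Main

set_option autoImplicit false
set_option maxRecDepth 1000000

namespace Cfsg.Agent.Helper9.TCData.SuzC3
open Cfsg.Agent.Helper9.TC2

theorem e3_4 : allRange 16467 4977 (fun u => chkE tab 3 u) = true := by decide +kernel

theorem e3_5 : allRange 21444 648 (fun u => chkE tab 3 u) = true := by decide +kernel


end Cfsg.Agent.Helper9.TCData.SuzC3
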