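import Cfsg.Agent.Lib.Helper9.TCData.SuzC3.Main

set_option autoImplicit false
set_option maxRecDepth 1000000

namespace Cfsg.Agent.Helper9.TCData.SuzC3
open Cfsg.Agent.Helper9.TC2

theorem l_0 : allRange 0 3454 (fun u => chkL tab u) = true := by decide +kernel

theorem l_1 : allRange 3454 1784 (fun u => chkL tab u) = true := by decide +kernel

theorem l_2 : allRange 5238 1650 (fun u => chkL tab u) = true := by decide +kernel

theorem l_3 : allRange 6888 1621 (fun u => chkL tab u) = true := by decide +kernel

theorem l_4 : allRange 8509 1606 (fun u => chkL tab u) = true := by decide +kernel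

theorem l_5 : allRange 10115 1602 (fun u => chkL tab u) = true := by decide +kernel

theorem l_6 : allRange 11717 1602 (fun u => chkL tab u) = true := by decide +kernel

theorem l_7 : allRange 13319 1600 (fun u => chkL tab u) = true := by decide +kernel


end Cfsg.Agent.Helper9.TCData.SuzC3
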