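import Cfsg.Agent.Lib.Helper9.TCData.SuzC3.Main

set_option autoImplicit false
set_option maxRecDepth 1000000

namespace Cfsg.Agent.Helper9.TCData.SuzC3
open Cfsg.Agent.Helper9.TC2

theorem l_8 : allRange 14919 1600 (fun u => chkL tab u) = true := by decide +kernel

theorem l_9 : allRange 16519 1600 (fun u => chkL tab u) = true := by decide +kernel

theorem l_10 : allRange 18119 1600 (fun u => chkL tab u) = true := by decide +kernel

theorem l_11 : allRange 19719 1600 (fun u => chkL tab u) = true := by decide +kernel

theorem l_12 : allRange 21319 773 (fun u => chkL tab u) = true := by decide +kernel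


end Cfsg.Agent.Helper9.TCData.SuzC3
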