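import Cfsg.Agent.Lib.Helper9.TCData.SuzC3.Main

set_option autoImplicit false
set_option maxRecDepth 1000000

namespace Cfsg.Agent.Helper9.TCData.SuzC3
open Cfsg.Agent.Helper9.TC2

theorem m2_6 : allRange 1512 252 (fun u => chkFix tab mwords u) = true := by decide +kernel

theorem m2_7 : allRange 1764 252 (fun u => chkFix tab mwords u) = true := by decide +kernel

theorem m2_8 : allRange 2016 144 (fun u => chkFix tab mwords u) = true := by decide +kernel


end Cfsg.Agent.Helper9.TCData.SuzC3
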