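import Cfsg.Agent.Lib.Helper9.TCData.SuzC3.S0
import Cfsg.Agent.Lib.Helper9.TCData.SuzC3.S1
import Cfsg.Agent.Lib.Helper9.TCData.SuzC3.S2
import Cfsg.Agent.Lib.Helper9.TCData.SuzC3.S3
import Cfsg.Agent.Lib.Helper9.TCData.SuzC3.S4
import Cfsg.Agent.Lib.Helper9.TCData.SuzC3.S5
import Cfsg.Agent.Lib.Helper9.TCData.SuzC3.S6
import Cfsg.Agent.Lib.Helper9.TCData.SuzC3.S7
import Cfsg.Agent.Lib.Helper9.TCData.SuzC3.S8
import Cfsg.Agent.Lib.Helper9.TCData.SuzC3.S9

set_option autoImplicit false
set_option maxRecDepth 1000000

namespace Cfsg.Agent.Helper9.TCData.SuzC3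
open Cfsg.Agent.Helper9.TC2


theorem hE0 : ∀ u < 22092, chkE tab 0 u = true := by
  have h0 : ∀ u < 0, (fun u => chkE tab 0 u) u = true := range_zero
  have h1 : ∀ u < 2936, (fun u => chkE tab 0 u) u = true := ext_range (a := 0) (len := 2936) h0 e0_0
  have h2 : ∀ u < 5840, (fun u => chkE tab 0 u) u = true := ext_range (a := 2936) (len := 2904) h1 e0_1
  have h3 : ∀ u < 8748, (fun u => chkE tab 0 u) u = true := ext_range (a := 5840) (len := 2908) h2 e0_2
  have h4 : ∀ u < 11642, (fun u => chkE tab 0 u) u = true := ext_range (a := 8748) (len := 2894) h3 e0_3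
  have h5 : ∀ u < 14551, (fun u => chkE tab 0 u) u = true := ext_range (a := 11642) (len := 2909) h4 e0_4
  have h6 : ∀ u < 17505, (fun u => chkE tab 0 u) u = true := ext_range (a := 14551) (len := 2954) h5 e0_5
  have h7 : ∀ u < 22092, (fun u => chkE tab 0 u) u = true := ext_range (a := 17505) (len := 4587) h6 e0_6
  exact h7

theorem hE1 : ∀ u < 22092, chkE tab 1 u = true := by
  have h0 : ∀ u < 0, (fun u => chkE tab 1 u) u = true := range_zero
  have h1 : ∀ u < 3169, (fun u => chkE tab 1 u) u = true := ext_range (a := 0) (len := 3169) h0 e1_0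
  have h2 : ∀ u < 6312, (fun u => chkE tab 1 u) u = true := ext_range (a := 3169) (len := 3143) h1 e1_1
  have h3 : ∀ u < 9437, (fun u => chkE tab 1 u) u = true := ext_range (a := 6312) (len := 3125) h2 e1_2
  have h4 : ∀ u < 12522, (fun u => chkE tab 1 u) u = true := ext_range (a := 9437) (len := 3085) h3 e1_3
  have h5 : ∀ u < 15673, (fun u => chkE tab 1 u) u = true := ext_range (a := 12522) (len := 3151) h4 e1_4
  have h6 : ∀ u < 20573, (fun u => chkE tab 1 u) u = true := ext_range (a := 15673) (len := 4900) h5 e1_5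
  have h7 : ∀ u < 22092, (fun u => chkE tab 1 u) u = true := ext_range (a := 20573) (len := 1519) h6 e1_6
  exact h7

theorem hE2 : ∀ u < 22092, chkE tab 2 u = true := by
  have h0 : ∀ u < 0, (fun u => chkE tab 2 u) u = true := range_zero
  have h1 : ∀ u < 3616, (fun u => chkE tab 2 u) u = true := ext_range (a := 0) (len := 3616) h0 e2_0
  have h2 : ∀ u < 7092, (fun u => chkE tab 2 u) u = true := ext_range (a := 3616) (len := 3476) h1 e2_1
  have h3 : ∀ u < 10578, (fun u => chkE tab 2 u) u = true := ext_range (a := 7092) (len := 3486) h2 e2_2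
  have h4 : ∀ u < 13984, (fun u => chkE tab 2 u) u = true := ext_range (a := 10578) (len := 3406) h3 e2_3
  have h5 : ∀ u < 17379, (fun u => chkE tab 2 u) u = true := ext_range (a := 13984) (len := 3395) h4 e2_4
  have h6 : ∀ u < 22092, (fun u => chkE tab 2 u) u = true := ext_range (a := 17379) (len := 4713) h5 e2_5
  exact h6

theorem hE3 : ∀ u < 22092, chkE tab 3 u = true := by
  have h0 : ∀ u < 0, (fun u => chkE tab 3 u) u = true := range_zero
  have h1 : ∀ u < 4362, (fun u => chkE tab 3 u) u = true := ext_range (a := 0) (len := 4362) h0 e3_0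
  have h2 : ∀ u < 8555, (fun u => chkE tab 3 u) u = true := ext_range (a := 4362) (len := 4193) h1 e3_1
  have h3 : ∀ u < 12568, (fun u => chkE tab 3 u) u = true := ext_range (a := 8555) (len := 4013) h2 e3_2
  have h4 : ∀ u < 16467, (fun u => chkE tab 3 u) u = true := ext_range (a := 12568) (len := 3899) h3 e3_3
  have h5 : ∀ u < 21444, (fun u => chkE tab 3 u) u = true := ext_range (a := 16467) (len := 4977) h4 e3_4
  have h6 : ∀ u < 22092, (fun u => chkE tab 3 u) u = true := ext_range (a := 21444) (len := 648) h5 e3_5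
  exact h6

theorem hL : ∀ u < 22092, chkL tab u = true := by
  have h0 : ∀ u < 0, (fun u => chkL tab u) u = true := range_zero
  have h1 : ∀ u < 3454, (fun u => chkL tab u) u = true := ext_range (a := 0) (len := 3454) h0 l_0
  have h2 : ∀ u < 5238, (fun u => chkL tab u) u = true := ext_range (a := 3454) (len := 1784) h1 l_1
  have h3 : ∀ u < 6888, (fun u => chkL tab u) u = true := ext_range (a := 5238) (len := 1650) h2 l_2
  have h4 : ∀ u < 8509, (fun u => chkL tab u) u = true := ext_range (a := 6888) (len := 1621) h3 l_3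
  have h5 : ∀ u < 10115, (fun u => chkL tab u) u = true := ext_range (a := 8509) (len := 1606) h4 l_4
  have h6 : ∀ u < 11717, (fun u => chkL tab u) u = true := ext_range (a := 10115) (len := 1602) h5 l_5
  have h7 : ∀ u < 13319, (fun u => chkL tab u) u = true := ext_range (a := 11717) (len := 1602) h6 l_6
  have h8 : ∀ u < 14919, (fun u => chkL tab u) u = true := ext_range (a := 13319) (len := 1600) h7 l_7
  have h9 : ∀ u < 16519, (fun u => chkL tab u) u = true := ext_range (a := 14919) (len := 1600) h8 l_8
  have h10 : ∀ u < 18119, (fun u => chkL tab u) u = true := ext_range (a := 16519) (len := 1600) h9 l_9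
  have h11 : ∀ u < 19719, (fun u => chkL tab u) u = true := ext_range (a := 18119) (len := 1600) h10 l_10
  have h12 : ∀ u < 21319, (fun u => chkL tab u) u = true := ext_range (a := 19719) (len := 1600) h11 l_11
  have h13 : ∀ u < 22092, (fun u => chkL tab u) u = true := ext_range (a := 21319) (len := 773) h12 l_12
  exact h13

theorem hF : ∀ u < 2160, chkFin tab u = true := by
  have h0 : ∀ u < 0, (fun u => chkFin tab u) u = true := range_zero
  have h1 : ∀ u < 572, (fun u => chkFin tab u) u = true := ext_range (a := 0) (len := 572) h0 f_0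
  have h2 : ∀ u < 1144, (fun u => chkFin tab u) u = true := ext_range (a := 572) (len := 572) h1 f_1
  have h3 : ∀ u < 1716, (fun u => chkFin tab u) u = true := ext_range (a := 1144) (len := 572) h2 f_2
  have h4 : ∀ u < 2160, (fun u => chkFin tab u) u = true := ext_range (a := 1716) (len := 444) h3 f_3
  exact h4

theorem hC : ∀ u < 22092, chkCls tab u = true := by
  have h0 : ∀ u < 0, (fun u => chkCls tab u) u = true := range_zero
  have h1 : ∀ u < 2667, (fun u => chkCls tab u) u = true := ext_range (a := 0) (len := 2667) h0 c_0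
  have h2 : ∀ u < 5334, (fun u => chkCls tab u) u = true := ext_range (a := 2667) (len := 2667) h1 c_1
  have h3 : ∀ u < 8001, (fun u => chkCls tab u) u = true := ext_range (a := 5334) (len := 2667) h2 c_2
  have h4 : ∀ u < 10668, (fun u => chkCls tab u) u = true := ext_range (a := 8001) (len := 2667) h3 c_3
  have h5 : ∀ u < 13335, (fun u => chkCls tab u) u = true := ext_range (a := 10668) (len := 2667) h4 c_4
  have h6 : ∀ u < 16002, (fun u => chkCls tab u) u = true := ext_range (a := 13335) (len := 2667) h5 c_5
  have h7 : ∀ u < 18669, (fun u => chkCls tab u) u = true := ext_range (a := 16002) (len := 2667) h6 c_6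
  have h8 : ∀ u < 21336, (fun u => chkCls tab u) u = true := ext_range (a := 18669) (len := 2667) h7 c_7
  have h9 : ∀ u < 22092, (fun u => chkCls tab u) u = true := ext_range (a := 21336) (len := 756) h8 c_8
  exact h9

theorem hM1 : ∀ u < 2160, chkM1 tab u = true := by
  have h0 : ∀ u < 0, (fun u => chkM1 tab u) u = true := range_zero
  have h1 : ∀ u < 1510, (fun u => chkM1 tab u) u = true := ext_range (a := 0) (len := 1510) h0 m1_0
  have h2 : ∀ u < 2160, (fun u => chkM1 tab u) u = true := ext_range (a := 1510) (len := 650) h1 m1_1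
  exact h2

theorem hM2 : ∀ u < 2160, chkFix tab mwords u = true := by
  have h0 : ∀ u < 0, (fun u => chkFix tab mwords u) u = true := range_zero
  have h1 : ∀ u < 252, (fun u => chkFix tab mwords u) u = true := ext_range (a := 0) (len := 252) h0 m2_0
  have h2 : ∀ u < 504, (fun u => chkFix tab mwords u) u = true := ext_range (a := 252) (len := 252) h1 m2_1
  have h3 : ∀ u < 756, (fun u => chkFix tab mwords u) u = true := ext_range (a := 504) (len := 252) h2 m2_2
  have h4 : ∀ u < 1008, (fun u => chkFix tab mwords u) u = true := ext_range (a := 756) (len := 252) h3 m2_3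
  have h5 : ∀ u < 1260, (fun u => chkFix tab mwords u) u = true := ext_range (a := 1008) (len := 252) h4 m2_4
  have h6 : ∀ u < 1512, (fun u => chkFix tab mwords u) u = true := ext_range (a := 1260) (len := 252) h5 m2_5
  have h7 : ∀ u < 1764, (fun u => chkFix tab mwords u) u = true := ext_range (a := 1512) (len := 252) h6 m2_6
  have h8 : ∀ u < 2016, (fun u => chkFix tab mwords u) u = true := ext_range (a := 1764) (len := 252) h7 m2_7
  have h9 : ∀ u < 2160, (fun u => chkFix tab mwords u) u = true := ext_range (a := 2016) (len := 144) h8 m2_8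
  exact h9

theorem hE : ∀ c < 4, ∀ u < 22092, chkE tab c u = true := by
  intro c hc
  interval_cases c
  · exact hE0
  · exact hE1
  · exact hE2
  · exact hE3

end Cfsg.Agent.Helper9.TCData.SuzC3
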