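import Cfsg.Agent.Lib.Helper9.TC2Cox
import Cfsg.Agent.Lib.Helper9.TC2Aux
import Cfsg.Agent.Lib.Helper9.TC2BSGS
import Cfsg.Agent.Lib.Helper9.TC2Pack
import Cfsg.Agent.Lib.Helper9.TCData.SuzC3.P0

set_option autoImplicit false
set_option maxRecDepth 100000

namespace Cfsg.Agent.Helper9.TCData.SuzC3
open Cfsg.Agent.Helper9.TC2
/-- The rotated relators. -/
noncomputable def rotT : WT := (WT.node 10 (WT.node 5 (WT.node 2 (WT.node 1 (WT.leaf [0, 2, 0, 2]) (WT.leaf [0, 3, 0, 3])) (WT.node 3 (WT.leaf [0, 1, 0, 1, 0, 1, 0, 1, 0, 1]) (WT.node 4 (WT.leaf [0, 3, 2, 3, 2, 3, 2, 3, 2]) (WT.leaf [1, 3, 1, 3])))) (WT.node 7 (WT.node 6 (WT.leaf [1, 0, 1, 0, 1, 0, 1, 0, 1, 0]) (WT.leaf [1, 2, 1, 2, 1, 2])) (WT.node 8 (WT.leaf [2, 1, 2, 1, 2, 1]) (WT.node 9 (WT.leaf [2, 0, 2, 0]) (WT.leaf [2, 3, 2, 3, 2, 3, 2, 0, 3]))))) (WT.node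 15 (WT.node 12 (WT.node 11 (WT.leaf [2, 3, 2, 3, 2, 3, 2, 3, 2, 3, 2, 3, 2, 3, 2, 3]) (WT.leaf [2, 0, 3, 2, 3, 2, 3, 2, 3])) (WT.node 13 (WT.leaf [2, 3, 2, 3, 2, 0, 3, 2, 3]) (WT.node 14 (WT.leaf [2, 3, 2, 0, 3, 2, 3, 2, 3]) (WT.leaf [3, 2, 3, 2, 3, 2, 3, 2, 3, 2, 3, 2, 3, 2, 3, 2])))) (WT.node 18 (WT.node 16 (WT.leaf [3, 1, 3, 1]) (WT.node 17 (WT.leaf [3, 0, 3, 0]) (WT.leaf [3, 2, 3, 2, 3, 2, 0, 3, 2]))) (WT.node 19 (WT.leaf [3, 2, 3, 2, 3, 2, 3, 2, 0]) (WT.node 20 (WT.leaf [3, 2, 3, 2, 0, 3, 2, 3, 2]) (WT.leaf [3, 2, 0, 3, 2, 3, 2, 3, 2]))))))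

/-- The sources of the rotated relators: relator and rotation. -/
def rotSrc : List (ℕ × ℕ) := [(2, 2), (3, 2), (1, 2), (16, 0), (7, 2), (1, 1), (6, 2), (6, 1), (2, 1), (16, 2), (11, 2), (16, 8), (16, 4), (16, 6), (11, 1), (7, 1), (3, 1), (16, 3), (16, 1), (16, 5), (16, 7)]

/-- The relators, as words of columns. -/
def relWords : List (List ℕ) := [[0, 0], [0, 1, 0, 1, 0, 1, 0, 1, 0, 1], [0, 2, 0, 2], [0, 3, 0, 3], [1, 0, 1, 0, 1, 0, 1, 0, 1, 0], [1, 1], [1, 2, 1, 2, 1, 2], [1, 3, 1, 3], [2, 0, 2, 0], [2, 1, 2, 1, 2, 1], [2, 2], [2, 3, 2, 3, 2, 3, 2, 3, 2, 3, 2, 3, 2, 3, 2, 3], [3, 0, 3, 0], [3, 1, 3, 1], [3, 2, 3, 2, 3, 2, 3, 2, 3, 2, 3, 2, 3, 2, 3, 2], [3, 3], [0, 3, 2, 3, 2, 3, 2, 3, 2]]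

/-- The words checked on the permutation model. -/
def mwords : List (List ℕ) := [[0, 1, 0, 1, 0, 1, 0, 1, 0, 1], [0, 2, 0, 2], [0, 3, 0, 3], [1, 2, 1, 2, 1, 2], [1, 3, 1, 3], [2, 3, 2, 3, 2, 3, 2, 3, 2, 3, 2, 3, 2, 3, 2, 3], [0, 3, 2, 3, 2, 3, 2, 3, 2]]

/-- The table. -/
noncomputable def tab : Tab where
  k := 4
  inv := fun c => c
  N := 22092
  n := 2160
  Tmax := 100186
  wn := 15
  mn := 0x7fff
  subs := []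
  rot := fun i => rotT.getF i
  ent := fun c i => bget2 entT_0 6 9 32 0xffffffff 511 c i
  cer := fun c i => bget2 cerT_0 6 9 18 0x3ffff 511 c i
  tau := fun c i => bget2 tauT_0 2 10 12 0xfff 1023 c i
  lk := fun i => bget lkT_0 9 32 0xffffffff 511 i
  lc := fun i => bget lcT_0 8 34 0x3ffffffff 255 i
  pn := fun i => bget pnT_0 9 17 0x1ffff 511 i
  cls := fun i => bget clsT_0 10 12 0xfff 1023 i
  rep := fun i => bget repT_0 10 14 0x3fff 1023 i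

end Cfsg.Agent.Helper9.TCData.SuzC3
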