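import Cfsg.Agent.Lib.Helper9.TCData.SuzC3.Main

set_option autoImplicit false
set_option maxRecDepth 1000000

namespace Cfsg.Agent.Helper9.TCData.SuzC3
open Cfsg.Agent.Helper9.TC2

theorem e0_0 : allRange 0 2936 (fun u => chkE tab 0 u) = true := by decide +kernel

theorem e0_1 : allRange 2936 2904 (fun u => chkE tab 0 u) = true := by decide +kernel

theorem e0_2 : allRange 5840 2908 (fun u => chkE tab 0 u) = true := by decide +kernel

theorem e0_3 : allRange 8748 2894 (fun u => chkE tab 0 u) = true := by decide +kernel

theorem e0_4 : allRange 11642 2909 (fun u => chkE tab 0 u) = true := by decide +kernel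

theorem e0_5 : allRange 14551 2954 (fun u => chkE tab 0 u) = true := by decide +kernel

theorem e0_6 : allRange 17505 4587 (fun u => chkE tab 0 u) = true := by decide +kernel

theorem e1_0 : allRange 0 3169 (fun u => chkE tab 1 u) = true := by decide +kernel


end Cfsg.Agent.Helper9.TCData.SuzC3
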